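import Cfsg.Prelude.Def_Balance
import Cfsg.Agent.Lib.Signalizer.Solvable

/-!
A solvable functor defined on all elements with centraliser of rank at least three, equivariant under
conjugation: with trivial `O_{p'}` and a connected rank-two commuting graph it is trivial.
-/

set_option autoImplicit false

namespace Cfsg.Agent.Lib.SignalizerSolvable

open Cfsg Subgroup
open SignalizerFamily

universe u

variable {G : Type u} [Group G] [Finite G] {p : ℕ} [hp : Fact p.Prime]

/-- An elementary abelian subgroup of order at least `p ^ 3` bounds the rank from below. -/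
theorem not_pRankLE_of_elemAb {A H : Subgroup G} (hA : IsElementaryAbelian p A)
    (h3 : p ^ 3 ≤ Nat.card A) (hAH : A ≤ H) : ¬ PRankLE p 2 H := by
  intro h
  have h1 := h (A.subgroupOf H) ⟨⟨fun x y => Subtype.ext (Subtype.ext
    (comm_of_isElementaryAbelian hA x.2 y.2))⟩⟩ fun x hx => Subtype.ext (by simpa using hA.2 (x : G) hx)
  rw [Nat.card_congr (subgroupOfEquivOfLe hAH).toEquiv] at h1
  have h2 : p ^ 2 < p ^ 3 := Nat.pow_lt_pow_right hp.out.one_lt (by norm_num)
  omega

/-- Rank at least three gives an elementary abelian subgroup of order at least `p ^ 3`. -/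
theorem exists_elemAb_of_not_pRankLE {H : Subgroup G} (h : ¬ PRankLE p 2 H) :
    ∃ D ≤ H, IsElementaryAbelian p D ∧ p ^ 3 ≤ Nat.card D := by
  simp only [PRankLE, not_forall, not_le] at h
  obtain ⟨D, hDc, hDe, hD⟩ := h
  refine ⟨D.map H.subtype, map_subtype_le D, ElemAbelian.map ⟨hDc, hDe⟩ _, ?_⟩
  rw [card_map_of_injective H.subtype_injective]
  obtain ⟨n, hn⟩ := IsPGroup.iff_card.mp (isPGroup_of_isElementaryAbelian (p := p) ⟨hDc, hDe⟩)
  rw [hn] at hD ⊢
  exact Nat.pow_le_pow_right hp.out.pos ((Nat.pow_lt_pow_iff_right hp.out.one_lt).mp hD)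

variable {θ : G → Subgroup G}

/-- The elements on which an equivariant functor lives. -/
def IsRankThreeElement (p : ℕ) (a : G) : Prop :=
  orderOf a = p ∧ ¬ PRankLE p 2 ↥(centralizer ({a} : Set G))

theorem isRankThreeElement_of_mem {A : Subgroup G} (hA : IsElementaryAbelian p A)
    (h3 : p ^ 3 ≤ Nat.card A) {a : G} (ha : a ∈ A) (ha1 : a ≠ 1) : IsRankThreeElement p a :=
  ⟨orderOf_eq_prime (hA.2 a ha) ha1,
    not_pRankLE_of_elemAb hA h3 fun _ hb => mem_centralizer_singleton_iff.mpr
      (comm_of_isElementaryAbelian hA hb ha)⟩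

theorem equivariant_eq_bot (hO : pPrimeCore p G = ⊥) (hconn : IsRankGraphConnected p 2 G)
    (hC : ∀ a : G, IsRankThreeElement p a → θ a ≤ centralizer ({a} : Set G) ∧
      ¬ p ∣ Nat.card (θ a) ∧ Group.IsSolvable (θ a))
    (heq : ∀ a g : G, IsRankThreeElement p a →
      θ (g * a * g⁻¹) = (θ a).map (MulAut.conj g).toMonoidHom)
    (hbal : ∀ a b : G, IsRankThreeElement p a → IsRankThreeElement p b → a * b = b * a →
      θ a ⊓ centralizer {b} ≤ θ b) {a : G} (ha : IsRankThreeElement p a) : θ a = ⊥ := by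
  -- the restriction to a large elementary abelian subgroup
  have hfun : ∀ A : Subgroup G, IsElementaryAbelian p A → p ^ 3 ≤ Nat.card A →
      IsSolvableSignalizerFunctor p A θ := by
    intro A hA h3
    have hr := fun {x : G} (hx : x ∈ A) (hx1 : x ≠ 1) => isRankThreeElement_of_mem hA h3 hx hx1
    refine ⟨⟨fun x hx hx1 => (hC x (hr hx hx1)).1, fun x hx hx1 => (hC x (hr hx hx1)).2.1,
      fun x hx hx1 b hb y hy => ?_, fun x hx hx1 b hb hb1 =>
        hbal x b (hr hx hx1) (hr hb hb1) (comm_of_isElementaryAbelian hA hx hb)⟩,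
      fun x hx hx1 => (hC x (hr hx hx1)).2.2⟩
    have e := heq x b (hr hx hx1)
    rw [show b * x * b⁻¹ = x by rw [comm_of_isElementaryAbelian hA hb hx, mul_inv_cancel_right]] at e
    rw [e]
    exact mem_map_of_mem _ hy
  have hclo : ∀ A E : Subgroup G, IsElementaryAbelian p A → p ^ 3 ≤ Nat.card A → E ≤ A →
      p ^ 2 ≤ Nat.card E → signalizerClosure E θ = signalizerClosure A θ := fun A E hA h3 hEA hE =>
    le_antisymm (iSup_le fun e => le_iSup (fun b : {b : G // b ∈ A ∧ b ≠ 1} => θ b.1)
        ⟨e.1, hEA e.2.1, e.2.2⟩)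
      (signalizerClosure_le hA (hfun A hA h3) hEA hE fun e he he1 =>
        le_iSup (fun b : {b : G // b ∈ E ∧ b ≠ 1} => θ b.1) ⟨e, he, he1⟩)
  have hstep : ∀ E F : Subgroup G, IsRankGraphVertex p 2 E → IsRankGraphVertex p 2 F →
      (∀ e ∈ E, ∀ f ∈ F, e * f = f * e) → signalizerClosure E θ = signalizerClosure F θ := by
    intro E F hE hF hc
    have hA := ElemAbelian.sup hE.1 hF.1 fun e he => mem_centralizer_iff.mpr fun f hf => (hc e he f hf).symm
    by_cases h3 : p ^ 3 ≤ Nat.card ↥(E ⊔ F)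
    · rw [hclo _ E hA h3 le_sup_left hE.2.1, hclo _ F hA h3 le_sup_right hF.2.1]
    · obtain ⟨n, hn⟩ := IsPGroup.iff_card.mp (isPGroup_of_isElementaryAbelian hA)
      have hn2 : Nat.card ↥(E ⊔ F) ≤ p ^ 2 := by
        rw [hn] at h3 ⊢
        refine Nat.pow_le_pow_right hp.out.pos ?_
        by_contra hlt
        exact h3 (Nat.pow_le_pow_right hp.out.pos (by omega))
      exact congrArg (fun X => signalizerClosure X θ)
        ((eq_of_le_of_card_ge (le_sup_left : E ≤ E ⊔ F) (hn2.trans hE.2.1)).trans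
          (eq_of_le_of_card_ge (le_sup_right : F ≤ E ⊔ F) (hn2.trans hF.2.1)).symm)
  have hconst : ∀ E F : Subgroup G, IsRankGraphVertex p 2 E → IsRankGraphVertex p 2 F →
      signalizerClosure E θ = signalizerClosure F θ := by
    intro E F hE hF
    have hchain := hconn E F hE hF
    clear hF
    induction hchain with
    | refl => rfl
    | tail _ h ih => exact ih.trans (hstep _ _ h.1 h.2.1 h.2.2)
  have hvert : ∀ A : Subgroup G, IsElementaryAbelian p A → p ^ 3 ≤ Nat.card A →
      IsRankGraphVertex p 2 A := fun A hA h3 => ⟨hA, sq_le_card h3,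
    not_pRankLE_of_elemAb hA h3 fun x hx => mem_centralizer_iff.mpr fun y hy =>
      comm_of_isElementaryAbelian hA hy hx⟩
  -- an elementary abelian subgroup through `a`
  obtain ⟨D, hDC, hD, hD3⟩ := exists_elemAb_of_not_pRankLE ha.2
  set A := zpowers a ⊔ D
  have hA : IsElementaryAbelian p A := by
    refine ElemAbelian.sup (ElemAbelian.zpowers (by rw [← ha.1]; exact pow_orderOf_eq_one a)) hD ?_
    intro e he
    obtain ⟨k, rfl⟩ := mem_zpowers_iff.mp he
    exact mem_centralizer_iff.mpr fun f hf =>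
      ((show Commute a f from (mem_centralizer_singleton_iff.mp (hDC hf)).symm).zpow_left k).eq.symm
  have hA3 : p ^ 3 ≤ Nat.card A := hD3.trans (card_le_of_le le_sup_right)
  set W := signalizerClosure A θ with hW
  have hWG : W.Normal := by
    have hinv : ∀ g : G, W.map (MulAut.conj g).toMonoidHom ≤ W := by
      intro g
      have hAg : IsElementaryAbelian p (A.map (MulAut.conj g).toMonoidHom) := ElemAbelian.map hA _
      have hAg3 : p ^ 3 ≤ Nat.card ↥(A.map (MulAut.conj g).toMonoidHom) := by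
        rwa [card_map_of_injective (MulAut.conj g).injective]
      rw [hW, hconst A _ (hvert A hA hA3) (hvert _ hAg hAg3)]
      conv_lhs => rw [← hconst A _ (hvert A hA hA3) (hvert _ hAg hAg3)]
      simp only [signalizerClosure, Subgroup.map_iSup]
      refine iSup_le fun x => ?_
      rw [← heq x.1 g (isRankThreeElement_of_mem hA hA3 x.2.1 x.2.2)]
      refine le_iSup (fun b : {b : G // b ∈ A.map (MulAut.conj g).toMonoidHom ∧ b ≠ 1} => θ b.1)
        ⟨g * x.1 * g⁻¹, ⟨x.1, x.2.1, rfl⟩, fun e => x.2.2 ?_⟩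
      have := congrArg (fun z => g⁻¹ * z * g) e
      simpa [mul_assoc] using this
    exact ⟨fun w hw g => hinv g (mem_map_of_mem _ hw)⟩
  have hWp := (closure_of_solvable hA hA3 (hfun A hA hA3)).1
  have hW0 : W = ⊥ := le_bot_iff.mp (hO ▸ PSolvable.le_pPrimeCore
    ((Nat.Prime.coprime_iff_not_dvd hp.out).mpr hWp).symm)
  exact le_bot_iff.mp (hW0 ▸ le_iSup (fun b : {b : G // b ∈ A ∧ b ≠ 1} => θ b.1)
    ⟨a, mem_sup_left (mem_zpowers a), fun e => by
      have := ha.1
      rw [e, orderOf_one] at this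
      exact hp.out.one_lt.ne this⟩)

end Cfsg.Agent.Lib.SignalizerSolvable
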