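import Cfsg.Agent.Lib.Signalizer.Family
import Cfsg.Agent.Lib.Coprime.Quotient

/-!
# Completeness from hyperplanes inside a solvable `p'`-group

A family `M B`, indexed by the subgroups `B` of index at most `p` of an elementary abelian group
`A`, whose pairwise joins meet each `C(C)` inside `M C`, has this property for its join,
provided the join is a solvable group of order prime to `p`.
-/

set_option autoImplicit false
set_option linter.unusedSectionVars false

namespace Cfsg.Agent.Lib.SignalizerHyperplanes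

open Subgroup
open Cfsg Cfsg.Agent.Lib.SignalizerFamily
open scoped commutatorElement

variable {G : Type*} [Group G] [Finite G] {p : ℕ} [Fact p.Prime] {A : Subgroup G}

/-- The subgroups of index at most `p` of `A`. -/
abbrev Corank (p : ℕ) (A : Subgroup G) : Type _ :=
  {B : Subgroup G // B ≤ A ∧ Nat.card A ≤ p * Nat.card B}

theorem le_normalizer_iSup {ι : Sort*} {M : ι → Subgroup G}
    (hM : ∀ i, A ≤ normalizer (M i : Set G)) : A ≤ normalizer ((⨆ i, M i : Subgroup G) : Set G) := by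
  refine Coprime.le_normalizer_of_conj_mem fun a ha x hx => ?_
  refine Subgroup.iSup_induction M (C := fun x => a * x * a⁻¹ ∈ ⨆ i, M i) hx
    (fun i y hy => mem_iSup_of_mem i (Coprime.conj_mem_of_le_normalizer (hM i) ha hy))
    (by simp) fun y z hy hz => ?_
  rw [show a * (y * z) * a⁻¹ = (a * y * a⁻¹) * (a * z * a⁻¹) by group]
  exact mul_mem hy hz

theorem le_normalizer_inf {U V : Subgroup G} (hU : A ≤ normalizer (U : Set G))
    (hV : A ≤ normalizer (V : Set G)) : A ≤ normalizer ((U ⊓ V : Subgroup G) : Set G) := by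
  intro a ha
  rw [mem_normalizer_iff]
  intro z
  simp only [mem_inf, mem_normalizer_iff.mp (hU ha) z, mem_normalizer_iff.mp (hV ha) z]

/-- Two different members of `Corank` generate `A`. -/
theorem eq_or_sup_eq (hA : IsElementaryAbelian p A) (B C : Corank p A) :
    B = C ∨ B.1 ⊔ C.1 = A := by
  by_cases h : B.1 ⊔ C.1 = A
  · exact .inr h
  left
  have hp : p.Prime := Fact.out
  have hle : B.1 ⊔ C.1 ≤ A := sup_le B.2.1 C.2.1
  obtain ⟨n, hn⟩ := IsPGroup.iff_card.mp (isPGroup_of_isElementaryAbelian hA)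
  have hdvd : Nat.card ↥(B.1 ⊔ C.1) ∣ p ^ n := by rw [← hn]; exact card_dvd_of_le hle
  obtain ⟨j, hjn, hj⟩ := (Nat.dvd_prime_pow hp).mp hdvd
  have hlt : j < n := lt_of_le_of_ne hjn fun e =>
    h (eq_of_le_of_card_ge hle (hn.trans ((congrArg (p ^ ·) e.symm).trans hj.symm)).le)
  have hbound : p * Nat.card ↥(B.1 ⊔ C.1) ≤ Nat.card A :=
    calc p * Nat.card ↥(B.1 ⊔ C.1) = p ^ (j + 1) := by rw [hj, pow_succ']
      _ ≤ p ^ n := Nat.pow_le_pow_right hp.pos hlt
      _ = Nat.card A := hn.symm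
  have h1 : B.1 = B.1 ⊔ C.1 := eq_of_le_of_card_ge le_sup_left
    (Nat.le_of_mul_le_mul_left (hbound.trans B.2.2) hp.pos)
  have h2 : C.1 = B.1 ⊔ C.1 := eq_of_le_of_card_ge le_sup_right
    (Nat.le_of_mul_le_mul_left (hbound.trans C.2.2) hp.pos)
  exact Subtype.ext (h1.trans h2.symm)

theorem inf_centralizer_le_aux (hA : IsElementaryAbelian p A) (hA2 : p ^ 2 ≤ Nat.card A) (n : ℕ) :
    ∀ M : Corank p A → Subgroup G, Nat.card ↥(⨆ B, M B) ≤ n →
      Group.IsSolvable ↥(⨆ B, M B) → ¬ p ∣ Nat.card ↥(⨆ B, M B) →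
      (∀ B, M B ≤ centralizer (B.1 : Set G)) → (∀ B, A ≤ normalizer (M B : Set G)) →
      (∀ B B' C, (M B ⊔ M B') ⊓ centralizer (C.1 : Set G) ≤ M C) →
      ∀ C, (⨆ B, M B) ⊓ centralizer (C.1 : Set G) ≤ M C := by
  induction n using Nat.strong_induction_on with
  | _ n ih =>
  intro M hn hsolv hnd hfix hinv hpair C
  set U := ⨆ B, M B with hU
  have hAU : A ≤ normalizer (U : Set G) := le_normalizer_iSup hinv
  by_cases hUbot : U = ⊥
  · rw [hUbot, bot_inf_eq]; exact bot_le
  set D := ⁅U, U⁆ with hD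
  have hDU : D ≤ U := Coprime.commutator_le_of_le_normalizer le_normalizer
  have hAD : A ≤ normalizer (D : Set G) := Coprime.le_normalizer_commutator hAU hAU
  have hDn : U ≤ normalizer (D : Set G) :=
    Coprime.le_normalizer_commutator le_normalizer le_normalizer
  have hDlt : D < U := by
    haveI := hsolv
    haveI : Nontrivial U := (nontrivial_iff_ne_bot U).mpr hUbot
    refine lt_of_le_of_ne hDU fun he => ?_
    have h := Group.IsSolvable.commutator_lt_top_of_nontrivial U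
    apply h.ne
    apply Subgroup.map_injective U.subtype_injective
    rw [map_subtype_commutator, ← MonoidHom.range_eq_map, U.range_subtype]
    exact he
  set M' : Corank p A → Subgroup G := fun B => M B ⊓ D with hM'
  set U' := ⨆ B, M' B with hU'
  have hU'D : U' ≤ D := iSup_le fun B => inf_le_right
  have hlt : Nat.card U' < n :=
    lt_of_lt_of_le (Nat.lt_of_le_of_lt (card_le_of_le hU'D)
      (Set.ncard_lt_ncard hDlt (Set.toFinite _))) hn
  have hpair' : ∀ B B' C, (M' B ⊔ M' B') ⊓ centralizer (C.1 : Set G) ≤ M' C := fun B B' C =>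
    le_inf ((inf_le_inf_right _ (sup_le_sup inf_le_left inf_le_left)).trans (hpair B B' C))
      (inf_le_left.trans (sup_le inf_le_right inf_le_right))
  have hind := ih _ hlt M' le_rfl (Coprime.isSolvable_of_le (hU'D.trans hDU) hsolv)
    (not_dvd_of_le (hU'D.trans hDU) hnd) (fun B => inf_le_left.trans (hfix B))
    (fun B => le_normalizer_inf (hinv B) hAD) hpair'
  -- the pieces in `⁅U, U⁆` of pairwise joins lie in `U'`
  have hjoin : ∀ B B' : Corank p A, (M B ⊔ M B') ⊓ D ≤ U' := by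
    intro B B'
    refine le_of_hyperplanes hA hA2 (not_dvd_of_le (inf_le_right.trans hDU) hnd) ?_ ?_
    · refine le_normalizer_inf ?_ hAD
      refine Coprime.le_normalizer_of_conj_mem fun a ha x hx => ?_
      have hh : (M B ⊔ M B').map (MulAut.conj a).toMonoidHom ≤ M B ⊔ M B' := by
        rw [Subgroup.map_sup]
        refine sup_le_sup ?_ ?_ <;>
        · rintro _ ⟨y, hy, rfl⟩
          exact Coprime.conj_mem_of_le_normalizer (hinv _) ha hy
      exact hh ⟨x, hx, rfl⟩
    · intro E hE hEc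
      refine le_trans ?_ (le_iSup M' ⟨E, hE, hEc⟩)
      exact le_inf ((inf_le_inf_right _ inf_le_left).trans (hpair B B' ⟨E, hE, hEc⟩))
        (inf_le_left.trans inf_le_right)
  have hU'n : U ≤ normalizer (U' : Set G) := by
    refine iSup_le fun B => Coprime.le_normalizer_of_conj_mem fun y hy x hx => ?_
    refine Subgroup.iSup_induction M' (C := fun x => y * x * y⁻¹ ∈ U') hx (fun E z hz => ?_)
      (by simp) fun u v hu hv => ?_
    · have hy' : y ∈ M B ⊔ M E := mem_sup_left hy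
      have hz' : z ∈ M B ⊔ M E := mem_sup_right hz.1
      refine hjoin B E ⟨Subgroup.mul_mem _ (Subgroup.mul_mem _ hy' hz') (Subgroup.inv_mem _ hy'), ?_⟩
      exact Coprime.conj_mem_of_le_normalizer hDn (mem_iSup_of_mem B hy) hz.2
    · rw [show y * (u * v) * y⁻¹ = (y * u * y⁻¹) * (y * v * y⁻¹) by group]
      exact mul_mem hu hv
  -- the commutator subgroup is generated by the family
  have hDU' : D ≤ U' := by
    have h1 : ∀ (B : Corank p A), ∀ y ∈ M B, ∀ u ∈ U, ⁅y, u⁆ ∈ U' := by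
      intro B y hy u hu
      refine Subgroup.iSup_induction M (C := fun u => u ∈ U ∧ ⁅y, u⁆ ∈ U') hu (fun E z hz => ?_)
        ⟨one_mem _, by simp⟩ (fun v w hv hw => ?_) |>.2
      · refine ⟨mem_iSup_of_mem E hz, hjoin B E ⟨?_, commutator_mem_commutator
          (mem_iSup_of_mem B hy) (mem_iSup_of_mem E hz)⟩⟩
        rw [commutatorElement_def]
        have hy' : y ∈ M B ⊔ M E := mem_sup_left hy
        have hz' : z ∈ M B ⊔ M E := mem_sup_right hz
        exact Subgroup.mul_mem _ (Subgroup.mul_mem _ (Subgroup.mul_mem _ hy' hz') (Subgroup.inv_mem _ hy'))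
          (Subgroup.inv_mem _ hz')
      · refine ⟨mul_mem hv.1 hw.1, ?_⟩
        rw [show ⁅y, v * w⁆ = ⁅y, v⁆ * (v * ⁅y, w⁆ * v⁻¹) by
          simp only [commutatorElement_def]; group]
        exact mul_mem hv.2 (Coprime.conj_mem_of_le_normalizer hU'n hv.1 hw.2)
    refine commutator_le.mpr fun u hu v hv => ?_
    refine Subgroup.iSup_induction M (C := fun u => u ∈ U ∧ ⁅u, v⁆ ∈ U') hu (fun E z hz => ?_)
      ⟨one_mem _, by simp⟩ (fun a b ha hb => ?_) |>.2
    · exact ⟨mem_iSup_of_mem E hz, h1 E z hz v hv⟩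
    · refine ⟨mul_mem ha.1 hb.1, ?_⟩
      rw [show ⁅a * b, v⁆ = a * ⁅b, v⁆ * a⁻¹ * ⁅a, v⁆ by simp only [commutatorElement_def]; group]
      exact mul_mem (Coprime.conj_mem_of_le_normalizer hU'n ha.1 hb.2) ha.2
  -- modulo `M C ⊔ ⁅U, U⁆` the norm over `C` kills everything
  set L := M C ⊔ D with hL
  have hMU : M C ≤ U := le_iSup M C
  have hLU : L ≤ U := sup_le hMU hDU
  have hcomm : ∀ u ∈ U, ∀ l ∈ L, u * l * u⁻¹ ∈ L := by
    intro u hu l hl
    rw [show u * l * u⁻¹ = ⁅u, l⁆ * l by simp only [commutatorElement_def]; group]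
    exact mul_mem (mem_sup_right (commutator_mem_commutator hu (hLU hl))) hl
  haveI hLn : (L.subgroupOf U).Normal := ⟨fun l hl u => hcomm u u.2 l hl⟩
  haveI hQc : Std.Commutative (α := U ⧸ L.subgroupOf U) (· * ·) := ⟨fun x y => by
    induction x using QuotientGroup.induction_on with | H x => ?_
    induction y using QuotientGroup.induction_on with | H y => ?_
    rw [← QuotientGroup.mk_mul, ← QuotientGroup.mk_mul, QuotientGroup.eq, mem_subgroupOf]
    refine mem_sup_right ?_
    have : (((x * y)⁻¹ * (y * x) : U) : G) = ⁅((y : G))⁻¹, ((x : G))⁻¹⁆ := by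
      simp only [commutatorElement_def, coe_mul, coe_inv]; group
    rw [this]
    exact commutator_mem_commutator (U.inv_mem y.2) (U.inv_mem x.2)⟩
  letI : CommGroup (U ⧸ L.subgroupOf U) :=
    { QuotientGroup.Quotient.group _ with mul_comm := hQc.comm }
  letI : Fintype C.1 := Fintype.ofFinite _
  have hcU : ∀ a ∈ A, ∀ u : U, a * (u : G) * a⁻¹ ∈ U := fun a ha u =>
    Coprime.conj_mem_of_le_normalizer hAU ha u.2
  let π : U →* U ⧸ L.subgroupOf U := QuotientGroup.mk' _
  have hπ : ∀ u : U, π u = 1 ↔ (u : G) ∈ L := fun u => by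
    rw [QuotientGroup.mk'_apply, QuotientGroup.eq_one_iff, mem_subgroupOf]
  let φ : U →* U ⧸ L.subgroupOf U :=
    { toFun := fun u => ∏ c : C.1, π ⟨_, hcU c (C.2.1 c.2) u⟩
      map_one' := Finset.prod_eq_one fun c _ => by
        rw [hπ]
        simp
      map_mul' := fun u v => by
        rw [← Finset.prod_mul_distrib]
        refine Finset.prod_congr rfl fun c _ => ?_
        rw [← map_mul]
        congr 1
        ext
        simp only [coe_mul]
        group }
  have hφfix : ∀ u : U, (u : G) ∈ centralizer (C.1 : Set G) → φ u = π u ^ Nat.card C.1 := by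
    intro u hu
    show ∏ c : C.1, π ⟨_, hcU c (C.2.1 c.2) u⟩ = _
    rw [Finset.prod_congr rfl (g := fun _ : C.1 => π u) fun c _ => congrArg π (Subtype.ext (by
      show (c : G) * u * (c : G)⁻¹ = u
      rw [mem_centralizer_iff.mp hu c c.2, mul_inv_cancel_right]))]
    rw [Finset.prod_const, Finset.card_univ, ← Nat.card_eq_fintype_card]
  have hker : ∀ B, ∀ y ∈ M B, ∀ hy : y ∈ U, φ ⟨y, hy⟩ = 1 := by
    intro B y hy hyU
    rcases eq_or_sup_eq hA B C with rfl | hsup
    · rw [hφfix ⟨y, hyU⟩ (hfix B hy),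
        (hπ ⟨y, hyU⟩).mpr (mem_sup_left hy), one_pow]
    -- `φ` is invariant under `A` on `M B`
    let S : Subgroup G :=
      { carrier := {a | a ∈ A ∧ ∀ m m' : U, (m : G) ∈ M B → (m' : G) = a * m * a⁻¹ → φ m' = φ m}
        one_mem' := ⟨one_mem _, fun m m' _ h => congrArg φ (Subtype.ext (by simpa using h))⟩
        mul_mem' := fun {a b} ha hb => ⟨mul_mem ha.1 hb.1, fun m m' hm h => by
          have h1 := hb.2 m ⟨_, hcU b hb.1 m⟩ hm rfl
          rw [← h1]
          refine ha.2 _ m' (Coprime.conj_mem_of_le_normalizer (hinv B) hb.1 hm) ?_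
          rw [h]
          simp only [mul_inv_rev]
          group⟩
        inv_mem' := fun {a} ha => ⟨inv_mem ha.1, fun m m' hm h => by
          refine (ha.2 m' m ?_ ?_).symm
          · rw [h]; exact Coprime.conj_mem_of_le_normalizer (hinv B) (inv_mem ha.1) hm
          · rw [h]; group⟩ }
    have hS : A ≤ S := by
      calc A = B.1 ⊔ C.1 := hsup.symm
        _ ≤ S := sup_le (fun b hb => ⟨B.2.1 hb, fun m m' hm h => congrArg φ (Subtype.ext (by
              rw [h, mem_centralizer_iff.mp (hfix B hm) b hb, mul_inv_cancel_right]))⟩)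
            (fun c hc => ⟨C.2.1 hc, fun m m' hm h => by
              show ∏ x : C.1, π ⟨_, hcU x (C.2.1 x.2) m'⟩ = ∏ x : C.1, π ⟨_, hcU x (C.2.1 x.2) m⟩
              refine Fintype.prod_equiv (Equiv.mulRight (⟨c, hc⟩ : C.1)) _ _ fun x =>
                congrArg π (Subtype.ext ?_)
              simp only [Equiv.coe_mulRight, coe_mul, h, mul_inv_rev]
              group⟩)
    have hcop := coprime_card hA (not_dvd_of_le (le_iSup M B) hnd)
    obtain ⟨d, hd, c, hc, rfl⟩ := Coprime.mem_commutator_mul_centralizer (hinv B)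
      (Coprime.coprime_of_le_right (Coprime.commutator_le_of_le_normalizer (hinv B)) hcop)
      (.inl (isSolvable_of_isElementaryAbelian hA)) hy
    have hdB : d ∈ M B := Coprime.commutator_le_of_le_normalizer (hinv B) hd
    have hcC : c ∈ M C := hpair B B C
      ⟨mem_sup_left hc.1, centralizer_le C.2.1 hc.2⟩
    have hdk : d ∈ (φ.ker.map U.subtype) := by
      refine (commutator_le.mpr ?_ : ⁅M B, A⁆ ≤ φ.ker.map U.subtype) hd
      intro m hm a ha
      have hmU : m ∈ U := mem_iSup_of_mem B hm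
      have hm' : a * m⁻¹ * a⁻¹ ∈ U := hcU a ha ⟨m⁻¹, inv_mem hmU⟩
      refine ⟨⟨m, hmU⟩ * ⟨_, hm'⟩, ?_, by
        simp only [Subgroup.coe_subtype, coe_mul, commutatorElement_def]; group⟩
      rw [SetLike.mem_coe, MonoidHom.mem_ker, map_mul,
        show φ ⟨_, hm'⟩ = φ (⟨m, hmU⟩⁻¹) from
          (hS ha).2 (⟨m, hmU⟩⁻¹) ⟨_, hm'⟩ ((M B).inv_mem hm) rfl, map_inv, mul_inv_cancel]
    obtain ⟨d', hd', rfl⟩ := hdk
    rw [show (⟨U.subtype d' * c, hyU⟩ : U) = d' * ⟨c, hMU hcC⟩ from Subtype.ext rfl, map_mul,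
      MonoidHom.mem_ker.mp hd', hφfix ⟨c, hMU hcC⟩ (centralizer_le C.2.1 hc.2),
      (hπ ⟨c, hMU hcC⟩).mpr (mem_sup_left hcC), one_pow, one_mul]
  intro x hx
  obtain ⟨hxU, hxC⟩ := hx
  have hφx : φ ⟨x, hxU⟩ = 1 := by
    refine Subgroup.iSup_induction M (C := fun x => ∃ h : x ∈ U, φ ⟨x, h⟩ = 1) hxU
      (fun E z hz => ⟨mem_iSup_of_mem E hz, hker E z hz _⟩) ⟨one_mem _, map_one φ⟩
      (fun a b ⟨h1, ha⟩ ⟨h2, hb⟩ => ⟨mul_mem h1 h2, ?_⟩) |>.2
    rw [show (⟨a * b, mul_mem h1 h2⟩ : U) = ⟨a, h1⟩ * ⟨b, h2⟩ from rfl, map_mul, ha, hb, one_mul]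
  rw [hφfix ⟨x, hxU⟩ hxC] at hφx
  have hxL : x ∈ L := by
    rw [← hπ ⟨x, hxU⟩]
    have hcop : (Nat.card C.1).Coprime (Nat.card U) :=
      Coprime.coprime_of_le_left C.2.1 (coprime_card hA hnd)
    have h1 : orderOf (π ⟨x, hxU⟩) ∣ Nat.card C.1 := orderOf_dvd_of_pow_eq_one hφx
    have h2 : orderOf (π ⟨x, hxU⟩) ∣ Nat.card U :=
      (orderOf_map_dvd π _).trans (orderOf_dvd_natCard _)
    exact orderOf_eq_one_iff.mp (Nat.eq_one_of_dvd_coprimes hcop h1 h2)
  obtain ⟨m, hm, d, hd, rfl⟩ : ∃ m ∈ M C, ∃ d ∈ D, m * d = x := by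
    have h : M C ≤ normalizer (D : Set G) := hMU.trans hDn
    have : x ∈ ((M C ⊔ D : Subgroup G) : Set G) := hxL
    rwa [coe_mul_of_left_le_normalizer_right _ _ h, Set.mem_mul] at this
  refine mul_mem hm (hind C ⟨hDU' hd, ?_⟩).1
  rw [show d = m⁻¹ * (m * d) by group]
  exact Subgroup.mul_mem _ (Subgroup.inv_mem _ (hfix C hm)) hxC

/-- The join of the family meets `C(C)` in `M C`. -/
theorem inf_centralizer_le (hA : IsElementaryAbelian p A) (hA2 : p ^ 2 ≤ Nat.card A)
    (M : Corank p A → Subgroup G) (hsolv : Group.IsSolvable ↥(⨆ B, M B))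
    (hnd : ¬ p ∣ Nat.card ↥(⨆ B, M B)) (hfix : ∀ B, M B ≤ centralizer (B.1 : Set G))
    (hinv : ∀ B, A ≤ normalizer (M B : Set G))
    (hpair : ∀ B B' C, (M B ⊔ M B') ⊓ centralizer (C.1 : Set G) ≤ M C) (C : Corank p A) :
    (⨆ B, M B) ⊓ centralizer (C.1 : Set G) ≤ M C :=
  inf_centralizer_le_aux hA hA2 _ M le_rfl hsolv hnd hfix hinv hpair C

end Cfsg.Agent.Lib.SignalizerHyperplanes
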