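import Cfsg.Agent.Lib.Signalizer.Hyperplanes
import Cfsg.Prelude.Def_Local

/-!
# The signalizer functor of a `k`-balanced group
-/

set_option autoImplicit false
set_option linter.unusedSectionVars false

namespace Cfsg.Agent.Lib.SignalizerKBalanced

open Subgroup
open scoped Pointwise
open Cfsg Cfsg.Agent.Lib.SignalizerFamily Cfsg.Agent.Lib.SignalizerHyperplanes

variable {G : Type*} [Group G] [Finite G] {p k : ℕ} [Fact p.Prime] {A : Subgroup G}

theorem not_dvd_core (x : G) : ¬ p ∣ Nat.card (centralizerPPrimeCore p x) := fun h =>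
  PSolvable.pPrimeCore_not_dvd (h.trans (Subgroup.card_map_dvd _ _))

theorem core_le_centralizer (x : G) : centralizerPPrimeCore p x ≤ centralizer {x} :=
  map_subtype_le _

theorem normalizes_core {x : G} (hA : IsElementaryAbelian p A) (hx : x ∈ A) :
    A ≤ normalizer (centralizerPPrimeCore p x : Set G) := by
  haveI := PSolvable.pPrimeCore_characteristic (G := ↥(centralizer ({x} : Set G))) (p := p)
  exact ((le_centralizer_singleton hA hx).trans le_normalizer).trans
    (Coprime.normalizer_le_normalizer_map_of_characteristic _)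

theorem normalizes_delta (hA : IsElementaryAbelian p A) {D : Subgroup G} (hD : D ≤ A) :
    A ≤ normalizer (signalizerDelta p D : Set G) := by
  refine Coprime.le_normalizer_of_conj_mem fun b hb x hx => ?_
  simp only [signalizerDelta, mem_iInf] at hx ⊢
  exact fun d => Coprime.conj_mem_of_le_normalizer (normalizes_core hA (hD d.2.1)) hb (hx d)

theorem normalizes_centralizer {B : Subgroup G} (hA : IsElementaryAbelian p A) (hB : B ≤ A) :
    A ≤ normalizer (centralizer (B : Set G) : Set G) :=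
  le_trans (fun a ha => mem_centralizer_iff.mpr fun b hb => comm_of_isElementaryAbelian hA (hB hb) ha)
    le_normalizer

/-- A subgroup of order at least `p ^ k` of `A` contains one of order `p ^ k`. -/
theorem exists_pow_le (hA : IsElementaryAbelian p A) {S : Subgroup G} (hS : S ≤ A)
    (hc : p ^ k ≤ Nat.card S) : ∃ E : Subgroup G, E ≤ S ∧ Nat.card E = p ^ k := by
  obtain ⟨m, hm⟩ := IsPGroup.iff_card.mp ((isPGroup_of_isElementaryAbelian hA).to_le hS)
  have hkm : k ≤ m := (Nat.pow_le_pow_iff_right (Fact.out : p.Prime).one_lt).mp (hm ▸ hc)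
  obtain ⟨E, hE⟩ := Sylow.exists_subgroup_card_pow_prime (G := S) p
    (hm ▸ Nat.pow_dvd_pow p hkm : p ^ k ∣ Nat.card S)
  exact ⟨E.map S.subtype, map_subtype_le _, by
    rw [← hE]; exact (Nat.card_congr (E.equivMapOfInjective _ S.subtype_injective).toEquiv).symm⟩

theorem pow_le_card_inf (hAk : p ^ (k + 2) ≤ Nat.card A) (B B' : Corank p A) :
    p ^ k ≤ Nat.card ↥(B.1 ⊓ B'.1) := by
  have h1 := Factorized.card_set_mul_mul_card_inf B.1 B'.1
  have h2 : Nat.card ↥((B.1 : Set G) * (B'.1 : Set G)) ≤ Nat.card A :=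
    Nat.card_mono (Set.toFinite (A : Set G))
      (Set.mul_subset_iff.mpr fun x hx y hy => A.mul_mem (B.2.1 hx) (B'.2.1 hy))
  have h4 : Nat.card A * Nat.card A ≤ (p ^ 2 * Nat.card ↥(B.1 ⊓ B'.1)) * Nat.card A :=
    calc Nat.card A * Nat.card A ≤ p * Nat.card B.1 * (p * Nat.card B'.1) :=
          Nat.mul_le_mul B.2.2 B'.2.2
      _ = p ^ 2 * (Nat.card B.1 * Nat.card B'.1) := by ring
      _ ≤ p ^ 2 * (Nat.card A * Nat.card ↥(B.1 ⊓ B'.1)) :=
          Nat.mul_le_mul_left _ (h1 ▸ Nat.mul_le_mul_right _ h2)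
      _ = _ := by ring
  have h5 := hAk.trans (Nat.le_of_mul_le_mul_right h4 Nat.card_pos)
  rw [pow_add, mul_comm] at h5
  exact Nat.le_of_mul_le_mul_left h5 (pow_pos (Fact.out : p.Prime).pos 2)

/-- `k`-balance, for subgroups of `A`. -/
theorem delta_inf_le (hbal : IsKBalanced p k G) (hA : IsElementaryAbelian p A) {E : Subgroup G}
    (hE : E ≤ A) (hEc : Nat.card E = p ^ k) {b : G} (hb : b ∈ A) (hb1 : b ≠ 1) :
    signalizerDelta p E ⊓ centralizer {b} ≤ centralizerPPrimeCore p b :=
  hbal E (KBalance.isElementaryAbelian_of_le hA hE) hEc b (orderOf_eq_prime (hA.2 b hb) hb1)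
    fun _ ha => comm_of_isElementaryAbelian hA (hE ha) hb

/-- The functor. -/
def theta (p k : ℕ) (A : Subgroup G) (a : G) : Subgroup G :=
  ⨆ D : {D : Subgroup G // D ≤ A ∧ Nat.card ↥D = p ^ k}, signalizerDelta p (D : Subgroup G) ⊓ centralizer {a}

/-- Its pieces on the subgroups of index at most `p`. -/
def piece (k : ℕ) (a : G) (B : Corank p A) : Subgroup G :=
  (⨅ (E : Subgroup G) (_ : E ≤ B.1 ∧ Nat.card E = p ^ k), signalizerDelta p E) ⊓
    centralizer (B.1 : Set G) ⊓ centralizer {a}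

theorem isSignalizerFunctor_theta (hbal : IsKBalanced p k G) (hA : IsElementaryAbelian p A)
    (hAk : p ^ (k + 2) ≤ Nat.card A)
    (hsolv : ∀ a ∈ A, a ≠ 1 → Group.IsSolvable ↥(centralizerPPrimeCore p a)) :
    IsSignalizerFunctor p A (theta p k A) := by
  have hA2 : p ^ 2 ≤ Nat.card A :=
    (Nat.pow_le_pow_right (Fact.out : p.Prime).pos (by omega)).trans hAk
  have hcore : ∀ a ∈ A, a ≠ 1 → theta p k A a ≤ centralizerPPrimeCore p a := fun a ha ha1 =>
    iSup_le fun D => delta_inf_le hbal hA D.2.1 D.2.2 ha ha1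
  have hinv : ∀ a ∈ A, A ≤ normalizer (theta p k A a : Set G) := fun a ha =>
    le_normalizer_iSup fun D : {D : Subgroup G // D ≤ A ∧ Nat.card ↥D = p ^ k} =>
      le_normalizer_inf (normalizes_delta hA D.2.1)
        ((le_centralizer_singleton hA ha).trans le_normalizer)
  -- balance at the level of the pieces
  have hbig : ∀ (a : G) (D : Subgroup G), D ≤ A → Nat.card D = p ^ k → ∀ C : Corank p A,
      signalizerDelta p D ⊓ centralizer {a} ⊓ centralizer (C.1 : Set G) ≤ piece k a C := by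
    intro a D hD hDc C x hx
    refine mem_inf.mpr ⟨mem_inf.mpr ⟨?_, hx.2⟩, hx.1.2⟩
    simp only [signalizerDelta, Subgroup.mem_iInf]
    intro E hE d
    exact delta_inf_le hbal hA hD hDc (C.2.1 (hE.1 d.2.1)) d.2.2
      ⟨hx.1.1, mem_centralizer_singleton_iff.mpr
        (mem_centralizer_iff.mp hx.2 _ (hE.1 d.2.1)).symm⟩
  have hsmall : ∀ (a : G) (B : Corank p A) (E : Subgroup G), E ≤ B.1 → Nat.card E = p ^ k →
      piece k a B ≤ signalizerDelta p E ⊓ centralizer {a} := fun a B E hE hEc =>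
    inf_le_inf_right _ (inf_le_left.trans (iInf₂_le E ⟨hE, hEc⟩))
  have htheta : ∀ a ∈ A, a ≠ 1 → theta p k A a = ⨆ B : Corank p A, piece k a B := by
    intro a ha ha1
    refine le_antisymm (iSup_le fun D => ?_) (iSup_le fun B => ?_)
    · refine le_of_hyperplanes hA hA2
        (not_dvd_of_le (delta_inf_le hbal hA D.2.1 D.2.2 ha ha1) (not_dvd_core a)) ?_ ?_
      · exact le_normalizer_inf (normalizes_delta hA D.2.1)
          ((le_centralizer_singleton hA ha).trans le_normalizer)
      · intro C hC hCc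
        exact (hbig a D D.2.1 D.2.2 ⟨C, hC, hCc⟩).trans (le_iSup (piece (p := p) (A := A) k a) ⟨C, hC, hCc⟩)
    · obtain ⟨E, hE, hEc⟩ := exists_pow_le hA (inf_le_left.trans B.2.1) (pow_le_card_inf hAk B B)
      exact (hsmall a B E (hE.trans inf_le_left) hEc).trans
        (le_iSup (fun D : {D : Subgroup G // D ≤ A ∧ Nat.card ↥D = p ^ k} =>
          signalizerDelta p (D : Subgroup G) ⊓ centralizer {a})
          ⟨E, (hE.trans inf_le_left).trans B.2.1, hEc⟩)
  refine ⟨fun a ha ha1 => (hcore a ha ha1).trans (core_le_centralizer a),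
    fun a ha ha1 => not_dvd_of_le (hcore a ha ha1) (not_dvd_core a),
    fun a ha _ b hb x hx => Coprime.conj_mem_of_le_normalizer (hinv a ha) hb hx,
    fun a ha ha1 b hb hb1 => ?_⟩
  refine le_of_hyperplanes hA hA2
    (not_dvd_of_le (inf_le_left.trans (hcore a ha ha1)) (not_dvd_core a))
    (le_normalizer_inf (hinv a ha) ((le_centralizer_singleton hA hb).trans le_normalizer)) ?_
  intro C hC hCc
  have hpiece : (⨆ B : Corank p A, piece k a B) ⊓ centralizer (C : Set G) ≤ piece k a ⟨C, hC, hCc⟩ := by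
    refine inf_centralizer_le hA hA2 (piece k a) ?_ ?_ (fun B => inf_le_left.trans inf_le_right)
      (fun B => ?_) (fun B B' C' => ?_) ⟨C, hC, hCc⟩
    · rw [← htheta a ha ha1]
      exact Coprime.isSolvable_of_le (hcore a ha ha1) (hsolv a ha ha1)
    · rw [← htheta a ha ha1]
      exact not_dvd_of_le (hcore a ha ha1) (not_dvd_core a)
    · refine le_normalizer_inf (le_normalizer_inf ?_ (normalizes_centralizer hA B.2.1))
        ((le_centralizer_singleton hA ha).trans le_normalizer)
      refine Coprime.le_normalizer_of_conj_mem fun c hc x hx => ?_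
      simp only [mem_iInf] at hx ⊢
      exact fun E hE => Coprime.conj_mem_of_le_normalizer
        (normalizes_delta hA (hE.1.trans B.2.1)) hc (hx E hE)
    · obtain ⟨E, hE, hEc⟩ := exists_pow_le hA (inf_le_left.trans B.2.1) (pow_le_card_inf hAk B B')
      refine (inf_le_inf_right _ ?_).trans (hbig a E ((hE.trans inf_le_left).trans B.2.1) hEc C')
      exact sup_le (hsmall a B E (hE.trans inf_le_left) hEc)
        (hsmall a B' E (hE.trans inf_le_right) hEc)
  intro x hx
  have h1 : x ∈ piece k a ⟨C, hC, hCc⟩ := hpiece ⟨(htheta a ha ha1) ▸ hx.1.1, hx.2⟩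
  obtain ⟨E, hE, hEc⟩ := exists_pow_le hA (inf_le_left.trans hC)
    (pow_le_card_inf hAk ⟨C, hC, hCc⟩ ⟨C, hC, hCc⟩)
  have h2 := hsmall a ⟨C, hC, hCc⟩ E (hE.trans inf_le_left) hEc h1
  exact le_iSup (fun D : {D : Subgroup G // D ≤ A ∧ Nat.card ↥D = p ^ k} =>
    signalizerDelta p (D : Subgroup G) ⊓ centralizer {b})
    ⟨E, (hE.trans inf_le_left).trans hC, hEc⟩ (mem_inf.mpr ⟨h2.1, hx.1.2⟩)

end Cfsg.Agent.Lib.SignalizerKBalanced
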